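import Cfsg.Agent.CosetCert.Pack

/-! Generated: the tree. -/

set_option Elab.async false

namespace Cfsg.Agent.CosetCert.Fi23Chain3

def treeStore : Store := (.leaf 0xf80000000000f61000000000f42000000000f06000000000ec6000000000ec3000000000e66000000000e64000000000e24000000000e06000000000e05000000000dc4000000000d85000000000d82000000000d64000000000d25000000000d05000000000d03000000000cc5000000000c85000000000c83000000000c64000000000c05000000000c03000000000be5000000000bc4000000000bc1000000000b85000000000b45000000000b24000000000b04000000000b02000000000ac5000000000aa4000000000a85000000000a64000000000a62000000000a43000000000a050000000009e40000000009c30000000009a40000000009830000000009800000000009250000000009040000000008e30000000008e00000000008c30000000008c10000000008600000000008450000000008240000000008030000000008010000000007e20000000007c50000000007a00000000007810000000007640000000007430000000007220000000007060000000006e40000000006c10000000006a20000000006830000000006620000000006460000000006420000000006230000000006020000000005c60000000005a20000000005860000000005830000000005620000000005260000000004e60000000004e30000000004c60000000004c40000000004860000000004460000000004430000000004060000000004040000000004010000000003c60000000003c10000000003860000000003840000000003640000000003620000000003460000000003220000000002e40000000002e20000000002c30000000002a20000000002830000000002640000000002430000000002400000000001e30000000001e00000000001c30000000001c10000000001a00000000001830000000001810000000001620000000001410000000001220000000001060000000000e20000000000c60000000000c5000000000086000000000084000000000066000000000063000000000042000000000021000000000000000000000000)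

end Cfsg.Agent.CosetCert.Fi23Chain3
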